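import Mathlib
import Groth.Prelude.Def_QCohCat
import Groth.Agent.Lib.Modules.SubStalk
import Groth.Agent.Lib.TensorMod.Free
import Groth.Agent.Lib.DerivedOX.Grothendieck

/-!
# A small separating family of quasi-coherent modules on an arbitrary scheme

Every section of a quasi-coherent module lies in a quasi-coherent submodule generated by sections
indexed by a fixed small type.
-/

set_option autoImplicit false
universe u

open CategoryTheory Limits AlgebraicGeometry Opposite TopologicalSpace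

namespace Groth.Agent.H83.QCohGroth

open Groth.Agent.Lib Groth.Agent.Lib.Modules Groth.Agent.Lib.Modules.SubStalk

noncomputable section

variable {X : Scheme.{u}}

/-- Quasi-coherence of a family spanned on an affine cover by sets of sections. -/
theorem isQCoh_subMod_of_span {F : X.Modules} [F.IsQuasicoherent] {S : Family F} {κ : Type u}
    (U : κ → X.Opens) (hU : ∀ i, IsAffineOpen (U i)) (hcov : ∀ x : X, ∃ i, x ∈ U i)
    (T : ∀ i, Set Γ(F, U i))
    (hs : ∀ i (y : X) (hy : y ∈ U i),
      S y = Submodule.span (X.presheaf.stalk y) (F.presheaf.germ (U i) y hy '' T i)) :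
    (subMod S).IsQuasicoherent := by
  refine QCoh.Localizing.isQCoh_of_forall_exists_localizes fun x => ?_
  obtain ⟨i, hi⟩ := hcov x
  refine ⟨U i, hU i, hi, fun f => ⟨fun a => ?_, fun a ha => ?_⟩⟩
  · obtain ⟨k, t, ht⟩ := (QCoh.Localizing.localizes_of_isAffineOpen F (hU i) f).ext'
      ((ι S).app _ a)
    obtain ⟨m, hm⟩ := exists_pow_smul_mem (hU i) (secs S (U i)) t f fun y hy hyf => by
      rw [← TopCat.Presheaf.germ_res_apply F.presheaf (homOfLE (X.basicOpen_le f)) y hyf t]
      erw [ht]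
      rw [Modules.StalkModule.germ_smul]
      refine Submodule.smul_mem _ _ ?_
      have h1 : F.presheaf.germ _ y hyf ((ι S).app _ a) ∈ S y := ι_app_mem S _ a y hyf
      refine Submodule.span_mono (Set.image_mono ?_) (hs i y hy ▸ h1)
      intro s hs' z hz
      rw [hs i z hz]
      exact Submodule.subset_span ⟨s, hs', rfl⟩
    obtain ⟨b, hb⟩ := exists_ι_app hm
    refine ⟨m + k, b, ι_app_injective S _ ?_⟩
    rw [← QCoh.Localizing.res_app, hb, Scheme.Modules.Hom.app_smul,
      QCoh.Localizing.res_smul, ht, map_pow, smul_smul, pow_add]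
  · obtain ⟨k, hk⟩ := (QCoh.Localizing.localizes_of_isAffineOpen F (hU i) f).sep
      ((ι S).app (U i) a) (by rw [QCoh.Localizing.res_app, ha, map_zero])
    exact ⟨k, ι_app_injective S _ (by rw [Scheme.Modules.Hom.app_smul, hk, map_zero])⟩

variable (X) in
/-- The members of the chosen affine cover. -/
abbrev cov (i : X.affineCover.I₀) : X.Opens := (X.affineCover.f i).opensRange

lemma isAffineOpen_cov (i : X.affineCover.I₀) : IsAffineOpen (cov X i) :=
  isAffineOpen_opensRange _

lemma exists_mem_cov (x : X) : ∃ i, x ∈ cov X i :=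
  ⟨X.affineCover.idx x, X.affineCover.covers x⟩

variable (X) in
/-- Codes for the closure process. -/
abbrev Code : Type u := List (Σ j : X.affineCover.I₀, Γ(X, cov X j))

variable (F : X.Modules) [F.IsQuasicoherent]

open Classical in
/-- Numerator over `U_j` of a section over `U_i`, with denominator a power of `h`. -/
def step (q : Σ i, Γ(F, cov X i)) (j : X.affineCover.I₀) (h : Γ(X, cov X j)) :
    Σ i, Γ(F, cov X i) :=
  if hle : X.basicOpen h ≤ cov X q.1 then
    ⟨j, ((QCoh.Localizing.localizes_of_isAffineOpen F (isAffineOpen_cov j) h).ext'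
      (QCoh.Localizing.res F hle q.2)).choose_spec.choose⟩
  else q

/-- Evaluation of a code, starting from a section. -/
def eval (q₀ : Σ i, Γ(F, cov X i)) : Code X → Σ i, Γ(F, cov X i)
  | [] => q₀
  | ⟨j, h⟩ :: c => step F (eval q₀ c) j h

variable (X) in
/-- Index type of the generators. -/
abbrev Idx : Type u := Code X × X.affineCover.I₀

variable (X) in
/-- A fixed module of which all the small submodules are quotients. -/
abbrev Q : X.Modules := ∐ fun p : Idx X => TensorMod.Free.freeOn (cov X p.2)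

open Classical in
/-- The sections generating the small submodule. -/
def sec (q₀ : Σ i, Γ(F, cov X i)) (p : Idx X) : Γ(F, cov X p.2) :=
  if h : (eval F q₀ p.1).1 = p.2 then h ▸ (eval F q₀ p.1).2 else 0

/-- The family generated by a section. -/
def fam (q₀ : Σ i, Γ(F, cov X i)) : Family F := fun y =>
  Submodule.span _ {v | ∃ (p : Idx X) (hy : y ∈ cov X p.2),
    F.presheaf.germ (cov X p.2) y hy (sec F q₀ p) = v}

lemma germ_eval_mem (q₀ : Σ i, Γ(F, cov X i)) (c : Code X) (y : X)
    (hy : y ∈ cov X (eval F q₀ c).1) (j : X.affineCover.I₀) (hyj : y ∈ cov X j) :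
    F.presheaf.germ _ y hy (eval F q₀ c).2 ∈ Submodule.span (X.presheaf.stalk y)
      (F.presheaf.germ (cov X j) y hyj '' Set.range (fun c' => sec F q₀ (c', j))) := by
  obtain ⟨h, hle, hyh⟩ :=
    (isAffineOpen_cov j).exists_basicOpen_le (⟨y, hy⟩ : cov X (eval F q₀ c).1) hyj
  have key : ∃ (n : ℕ) (t : Γ(F, cov X j)), eval F q₀ (⟨j, h⟩ :: c) = ⟨j, t⟩ ∧
      QCoh.Localizing.res F (X.basicOpen_le h) t =
        QCoh.Localizing.resR (X.basicOpen_le h) h ^ n •
          QCoh.Localizing.res F hle (eval F q₀ c).2 := by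
    let E := (QCoh.Localizing.localizes_of_isAffineOpen F (isAffineOpen_cov j) h).ext'
      (QCoh.Localizing.res F hle (eval F q₀ c).2)
    refine ⟨E.choose, E.choose_spec.choose, ?_, E.choose_spec.choose_spec⟩
    simp only [eval, step, dif_pos hle]
  obtain ⟨n, t, he, ht⟩ := key
  have hsec : sec F q₀ (⟨j, h⟩ :: c, j) = t := by
    have : ∀ (q : Σ i, Γ(F, cov X i)), q = ⟨j, t⟩ → ∀ (h' : q.1 = j), (h' ▸ q.2) = t := by
      rintro _ rfl h'
      rfl
    unfold sec
    rw [dif_pos (congrArg Sigma.fst he)]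
    exact this _ he _
  have hg := congrArg (F.presheaf.germ (X.basicOpen h) y hyh) ht
  rw [Modules.StalkModule.germ_smul, map_pow] at hg
  erw [TopCat.Presheaf.germ_res_apply, TopCat.Presheaf.germ_res_apply,
    TopCat.Presheaf.germ_res_apply] at hg
  have hu : IsUnit (X.presheaf.germ (cov X j) y hyj h ^ n) :=
    ((X.mem_basicOpen h y hyj).mp hyh).pow n
  refine (Submodule.smul_mem_iff_of_isUnit _ hu).mp ?_
  erw [← hg]
  exact Submodule.subset_span ⟨t, ⟨⟨j, h⟩ :: c, hsec⟩, rfl⟩

lemma fam_eq (q₀ : Σ i, Γ(F, cov X i)) (j : X.affineCover.I₀) (y : X) (hy : y ∈ cov X j) :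
    fam F q₀ y = Submodule.span (X.presheaf.stalk y)
      (F.presheaf.germ (cov X j) y hy '' Set.range (fun c' => sec F q₀ (c', j))) := by
  refine le_antisymm (Submodule.span_le.2 ?_) (Submodule.span_mono ?_)
  · rintro _ ⟨⟨c, i⟩, hyi, rfl⟩
    by_cases h : (eval F q₀ c).1 = i
    · subst h
      have : sec F q₀ (c, (eval F q₀ c).1) = (eval F q₀ c).2 := by simp [sec]
      rw [this]
      exact germ_eval_mem F q₀ c y hyi j hy
    · have : sec F q₀ (c, i) = 0 := by simp [sec, h]
      simp [this]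
  · rintro _ ⟨_, ⟨c, rfl⟩, rfl⟩
    exact ⟨(c, j), hy, rfl⟩

/-- The small quasi-coherent submodules. -/
lemma isQCoh_fam (q₀ : Σ i, Γ(F, cov X i)) : (subMod (fam F q₀)).IsQuasicoherent :=
  isQCoh_subMod_of_span (cov X) isAffineOpen_cov exists_mem_cov
    (fun j => Set.range (fun c' => sec F q₀ (c', j))) (fun j y hy => fam_eq F q₀ j y hy)

lemma sec_mem (q₀ : Σ i, Γ(F, cov X i)) (p : Idx X) :
    sec F q₀ p ∈ secs (fam F q₀) (cov X p.2) :=
  fun _ hy => Submodule.subset_span ⟨p, hy, rfl⟩

lemma root_mem (q₀ : Σ i, Γ(F, cov X i)) :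
    ∃ a : Γ(subMod (fam F q₀), cov X q₀.1), (ι (fam F q₀)).app _ a = q₀.2 := by
  refine exists_ι_app fun y hy => Submodule.subset_span ⟨([], q₀.1), hy, ?_⟩
  simp [sec, eval]

lemma exists_epi (q₀ : Σ i, Γ(F, cov X i)) :
    ∃ π : Q X ⟶ subMod (fam F q₀), Epi π := by
  choose a ha using fun p : Idx X => exists_ι_app (sec_mem F q₀ p)
  choose φ hφ using fun p : Idx X =>
    (TensorMod.Free.isFreeOn_freeOn (cov X p.2) (subMod (fam F q₀))).2 (a p)
  refine ⟨Sigma.desc φ, ?_⟩
  refine (Modules.StalkModule.epi_iff_stalkMapₗ_surjective _).2 ?_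
  intro y v
  have hle : fam F q₀ y ≤
      LinearMap.range (Modules.StalkModule.stalkMapₗ (Sigma.desc φ ≫ ι (fam F q₀)) y) := by
    refine Submodule.span_le.2 ?_
    rintro _ ⟨p, hy, rfl⟩
    refine ⟨Modules.StalkModule.stalkMapₗ (Sigma.ι (fun p : Idx X => TensorMod.Free.freeOn (cov X p.2)) p) y
      ((TensorMod.Free.freeOn (cov X p.2)).presheaf.germ _ y hy (TensorMod.Free.genSec (cov X p.2))), ?_⟩
    rw [← LinearMap.comp_apply, ← Modules.StalkModule.stalkMapₗ_comp,
      ← Category.assoc, Sigma.ι_desc, Modules.StalkModule.stalkMapₗ_germ]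
    congr 1
    exact (congrArg ((ι (fam F q₀)).app _) (hφ p)).trans (ha p)
  have hv : Modules.StalkModule.stalkMapₗ (ι (fam F q₀)) y v ∈ fam F q₀ y := by
    obtain ⟨V, hyV, t, rfl⟩ := TopCat.Presheaf.exists_germ_eq (subMod (fam F q₀)).presheaf v
    rw [Modules.StalkModule.stalkMapₗ_germ]
    exact ι_app_mem _ V t y hyV
  obtain ⟨w, hw⟩ := hle hv
  refine ⟨w, (Modules.StalkModule.mono_iff_stalkMapₗ_injective (ι (fam F q₀))).mp inferInstance y ?_⟩
  rw [← hw, Modules.StalkModule.stalkMapₗ_comp]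
  rfl

/-- Sections over the cover detect equality of maps out of a quasi-coherent module. -/
lemma hom_ext_cov {G : X.Modules} (f g : F ⟶ G)
    (h : ∀ i (s : Γ(F, cov X i)), f.app _ s = g.app _ s) : f = g := by
  refine Modules.StalkModule.hom_ext_stalkMapₗ fun y => ?_
  obtain ⟨i, hi⟩ := exists_mem_cov y
  have htop := CohBasics.Affine.germ_span_eq_top (M := F) (isAffineOpen_cov i) Set.univ
    (Submodule.span_univ) hi
  refine LinearMap.ext_on htop ?_
  rintro _ ⟨s, -, rfl⟩
  rw [Modules.StalkModule.stalkMapₗ_germ, Modules.StalkModule.stalkMapₗ_germ, h]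

end

end Groth.Agent.H83.QCohGroth
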