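import Mathlib
import Groth.Prelude.Def_QCohCat
import Groth.Agent.H83.QCohGroth.Gen
import Groth.Agent.Lib.BettiExact.QCohInc
import Groth.Agent.Lib.DerivedOX.Grothendieck

/-!
# Quasi-coherent modules on any scheme form a Grothendieck abelian category
-/

set_option autoImplicit false
universe u

open CategoryTheory Limits AlgebraicGeometry Opposite

namespace Groth.Agent.H83.QCohGroth

open Groth.Agent.Lib Groth.Agent.Lib.Modules
open Groth.Agent.Lib.BettiExact.QCohInc

noncomputable section

variable (X : Scheme.{u})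

instance isClosedUnderColimitsOfShape (J : Type u) [SmallCategory J] :
    (QCohCat.isQCoh X).IsClosedUnderColimitsOfShape J where
  colimitsOfShape_le := by
    rintro M ⟨h⟩
    exact QCoh.Closure.isQCoh_of_isColimit h.isColimit h.prop_diag_obj

instance abelian : Abelian (QCohCat.QCoh X) :=
  inferInstance

instance hasColimits : HasColimitsOfSize.{u, u} (QCohCat.QCoh X) :=
  ⟨fun _ _ => inferInstance⟩

instance preservesColimits_ι : PreservesColimitsOfSize.{u, u} (QCohCat.isQCoh X).ι :=
  ⟨fun {_} _ => inferInstance⟩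

instance grothendieckModules : IsGrothendieckAbelian.{u} X.Modules :=
  DerivedOX.Grothendieck.isGrothendieckAbelian_sheafOfModules X.ringCatSheaf

/-- Small index type of the separating family. -/
abbrev GenIdx : Type u :=
  Shrink.{u} { S : Subobject (Q X) // QCohCat.isQCoh X (cokernel S.arrow) }

/-- The separating family. -/
def gens (k : GenIdx X) : QCohCat.QCoh X :=
  ⟨cokernel ((equivShrink _).symm k).1.arrow, ((equivShrink _).symm k).2⟩

theorem isSeparating_gens : (ObjectProperty.ofObj (gens X)).IsSeparating := by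
  intro F G f g h
  apply ObjectProperty.hom_ext
  haveI : F.obj.IsQuasicoherent := F.property
  refine hom_ext_cov F.obj _ _ fun i s => ?_
  obtain ⟨a, ha⟩ := root_mem F.obj (⟨i, s⟩ : Σ i, Γ(F.obj, cov X i))
  obtain ⟨π, hπ⟩ := exists_epi F.obj (⟨i, s⟩ : Σ i, Γ(F.obj, cov X i))
  let K : Subobject (Q X) := Subobject.mk (kernel.ι π)
  let e : cokernel K.arrow ≅ SubStalk.subMod (fam F.obj ⟨i, s⟩) :=
    cokernelIsoOfEq (Subobject.underlyingIso_hom_comp_eq_mk (kernel.ι π)).symm ≪≫
      cokernelEpiComp _ _ ≪≫
      (cokernelIsCokernel (kernel.ι π)).coconePointUniqueUpToIso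
        (Abelian.epiIsCokernelOfKernel _ (limit.isLimit (parallelPair π 0)))
  have hK : QCohCat.isQCoh X (cokernel K.arrow) :=
    (QCohCat.isQCoh X).prop_of_iso e.symm (isQCoh_fam F.obj _)
  let T : QCohCat.QCoh X := ⟨cokernel K.arrow, hK⟩
  let m : T ⟶ F := ObjectProperty.homMk (e.hom ≫ SubStalk.ι _)
  have hmem : ObjectProperty.ofObj (gens X) T := by
    have : gens X (equivShrink _ ⟨K, hK⟩) = T := by
      have h0 := (equivShrink { S : Subobject (Q X) // QCohCat.isQCoh X (cokernel S.arrow) }).symm_apply_apply ⟨K, hK⟩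
      have : ∀ z : { S : Subobject (Q X) // QCohCat.isQCoh X (cokernel S.arrow) },
          z = ⟨K, hK⟩ → (⟨cokernel z.1.arrow, z.2⟩ : QCohCat.QCoh X) = T := by
        rintro _ rfl; rfl
      exact this _ h0
    rw [← this]
    exact ObjectProperty.ofObj_apply _ _
  have h1 := congrArg (fun t => Scheme.Modules.Hom.app t.hom (cov X i)) (h T hmem m)
  have h2 := ConcreteCategory.congr_hom h1 (e.inv.app (cov X i) a)
  have h3 : (SubStalk.ι (fam F.obj ⟨i, s⟩)).app (cov X i)
      (e.hom.app (cov X i) (e.inv.app (cov X i) a)) = s := by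
    rw [← ConcreteCategory.comp_apply, ← Scheme.Modules.Hom.comp_app,
      ← ConcreteCategory.comp_apply, ← Scheme.Modules.Hom.comp_app, e.inv_hom_id_assoc]
    exact ha
  simp only [m, ObjectProperty.FullSubcategory.comp_hom, ObjectProperty.homMk_hom,
    Scheme.Modules.Hom.comp_app, ConcreteCategory.comp_apply] at h2
  rw [h3] at h2
  exact h2

instance hasSeparator : HasSeparator (QCohCat.QCoh X) :=
  ⟨⟨∐ gens X, (isSeparator_sigma _).2 (isSeparating_gens X)⟩⟩

instance ab5 : AB5OfSize.{u, u} (QCohCat.QCoh X) := by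
  have : ReflectsFiniteLimits (QCohCat.isQCoh X).ι :=
    ⟨fun J _ _ => reflectsLimitsOfShape_of_reflectsIsomorphisms⟩
  exact ⟨fun J _ _ => HasExactColimitsOfShape.domain_of_functor J (QCohCat.isQCoh X).ι⟩

instance grothendieckQCoh : IsGrothendieckAbelian.{u} (QCohCat.QCoh X) where
  hasFilteredColimitsOfSize := ⟨fun _ _ _ => inferInstance⟩

/-- Colimit preserving functors out of quasi-coherent modules are left adjoints. -/
theorem isLeftAdjoint {D : Type*} [Category.{u} D] (F : QCohCat.QCoh X ⥤ D)
    [PreservesColimitsOfSize.{u, u} F] : F.IsLeftAdjoint := by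
  haveI : LocallySmall.{u} (QCohCat.QCoh X) := inferInstance
  haveI : WellPowered.{u} (QCohCat.QCoh X) := inferInstance
  haveI := Abelian.wellPowered_opposite (C := QCohCat.QCoh X)
  exact isLeftAdjoint_of_preservesColimits_of_isSeparating (isSeparating_gens X) F

end

end Groth.Agent.H83.QCohGroth
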